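import Cfsg.Agent.Lib.H2.TCHNC.Snd
import Cfsg.Agent.Lib.H2.TCHNC.R0

/-! (x y^3)^12 = 1 -/

set_option autoImplicit false
set_option maxRecDepth 100000
set_option linter.all false
namespace H2.TCHNC
open H35.TC
theorem all_nodes : ∀ u, u < M → chkP u = true := by
  intro u hu
  have hu' : u < 134 := hu
  rcases Nat.lt_or_ge u 512 with h | h
  · exact allB_spec _ _ _ r_0 u (by omega) (by omega)
  omega
theorem goal_of {G : Type} [Group G] {g : Lt → G} (hinv : ∀ x, g (inv x) = (g x)⁻¹)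
    (hp : ∀ x y, (g x * g y) ^ mm x y = 1) (he : ∀ p ∈ extra, ((p.1.map g).prod) ^ p.2 = 1) (W : List Lt)
    (h1 : Nat.ble (Nat.succ (trS MG M A 40 (W.map T) 0)) M = true)
    (h2 : Nat.beq (res MG M A 40 (trS MG M A 40 (W.map T) 0)) (res MG M A 40 0) = true) :
    (W.map g).prod = 1 := by
  have hS := final (H := (⊥ : Subgroup G)) hinv (mkRels_ok hp he) (by intro r hr; exact absurd hr (by simp [subs])) all_nodes
  have hM : 0 < M := by decide
  have h3 := trS_sound hM hS 40 W 0 (le_of_ble h1)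
  have h4 := res_sound hM hS 40 _ (le_of_ble h1)
  have h5 := res_sound hM hS 40 0 hM
  have h6 : act (fa g) W (cP g ⊥ 0) = cP g ⊥ 0 := by
    rw [← h3.2, ← h4.2, eqOfBeq h2, h5.2]
  rw [show cP g (⊥ : Subgroup G) 0 = ((1 : G) : G ⧸ (⊥ : Subgroup G)) from cc_zero, act_fa,
    MulAction.Quotient.smul_coe, QuotientGroup.eq] at h6
  simpa using h6

/-- **derived relation** `(x y^3)^12 = 1` -/
theorem goal_0 {G : Type} [Group G] {g : Lt → G} (hinv : ∀ x, g (inv x) = (g x)⁻¹)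
    (hp : ∀ x y, (g x * g y) ^ mm x y = 1) (he : ∀ p ∈ extra, ((p.1.map g).prod) ^ p.2 = 1) :
    (g .x * g .y ^ 3) ^ 12 = 1 := by
  have h := goal_of hinv hp he (pw [.x, .y, .y, .y] 12) (by decide +kernel) (by decide +kernel)
  rw [pw_prod] at h
  have e : ([Lt.x, .y, .y, .y].map g).prod = g .x * g .y ^ 3 := by
    simp [pow_succ, mul_assoc]
  rwa [e] at h
end H2.TCHNC
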